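import Cfsg.Agent.H607.Car.E6Def

/-!
# Good tori of `E₆^ε(q)` (helper303, S3852 T8)

* `exists_MM` : products of reflections `s_a`, `ch a t = 1`, are represented in `⟨X_a | ch a t = 1⟩`;
* `frame` : a toral fixed element `x` lies in a torus `v T v⁻¹` on which `σ` acts as `s ↦ s ^ (ε q)`, if the elements of
  the Weyl group which can occur are products of reflections `s_a`, `ch a t = 1`;
* `glue` : two such tori are conjugate by a fixed element.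
-/

set_option autoImplicit false
set_option linter.unusedSectionVars false

namespace Cfsg.Agent.H303.Car

open CoxeterSystem Subgroup Cfsg Cfsg.Lie Cfsg.Lie.ChevalleyDatum
open Cfsg.Agent.ChevalleyStructure Cfsg.Agent.ChevalleyStructure.Elts Cfsg.Agent.ChevalleyStructure.CoxeterGeom
  Cfsg.Agent.ChevalleyStructure.CoxeterGeomTypes Cfsg.Agent.ChevalleyStructure.NPerm
open Cfsg.Agent.Tits.Roots Cfsg.Agent.Tits.Core Cfsg.Agent.Nodes Cfsg.Agent.Nodes.Reps Cfsg.Agent.Nodes.BNOf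
  Cfsg.Agent.Nodes.RGDChev Cfsg.Agent.Nodes.Bruhat
open Cfsg.Agent.KFacts.RgdField Cfsg.Agent.KFacts.RgdChevCoord
open Cfsg.Agent.BpExc Cfsg.Agent.BpExc.TorCent Cfsg.Agent.BpExc.TorChev Cfsg.Agent.BpExc.Tow
open Cfsg.Agent.BpExc.TowChev Cfsg.Agent.BpExc.Fr Cfsg.Agent.BpExc.LangFr
open Cfsg.Agent.BpExc.FamUntw Cfsg.Agent.BpExc.Pair
open Cfsg.Agent.H696.GmnToral Cfsg.Agent.H720.TwFr
open Cfsg.Agent.H607.Car Cfsg.Agent.H696.GmnUntw Cfsg.Agent.Nodes.SubComb Cfsg.Agent.Nodes.Coroot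

theorem lf (r : ℕ) [Fact r.Prime] : LocFin (Kb r) := locFin_of_isAlgebraic r (Kb r)

theorem cen (r : ℕ) [Fact r.Prime] : center (Yb r) = ⊥ := center_eq_bot_of_simple (S1054.result chevE6 (by simp))

instance fin6 : Finite W6 := finite_W hp6 cs6

variable {r n : ℕ} [Fact r.Prime] {ε : ℤ} {X : Type} [Group X] {ι : X →* Yb r} {σ : MulAut (Yb r)}

/-- the system of representatives -/
abbrev H6 (r : ℕ) [Fact r.Prime] := tow hp6 cs6 (lf r) r (k := Kb r)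

theorem coordsC (r : ℕ) [Fact r.Prime] : Coords cs6 hp6.isCartan (TL (Tj hp6 (k := Kb r))) (nc hp6 (Kb r))
    (XL (Xj hp6 (k := Kb r))) (xc hp6) (ch hp6) := by
  rw [TL_eq hp6 (lf r), XL_eq hp6 (lf r)]
  exact coordsL hp6 cs6 (lf r) r

theorem chAddC (r : ℕ) [Fact r.Prime] : ChAdd cs6 hp6.isCartan (TL (Tj hp6 (k := Kb r))) (ch (K := Kb r) hp6) := by
  rw [TL_eq hp6 (lf r)]
  exact chAddL hp6 cs6 (lf r) r

/-- reflections with the same root are equal -/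
theorem rfl_congr {v w : W6} {i j : Fin 6} (h : rp v (sr i) = rp w (sr j)) : rfl' cs6 v i = rfl' cs6 w j := by
  refine rep_faithful hp6 cs6 fun a _ => ?_
  rw [rep_rfl'_eq, rep_rfl'_eq]
  have h' : rep cs6 hp6.isCartan v (sr i) = rep cs6 hp6.isCartan w (sr j) := h
  rw [h']

/-- **Reflections `s_a`, `ch a t = 1`.** -/
theorem exists_MM {t : Yb r} (ht : t ∈ Tb r) {w : W6}
    (hw : w ∈ Subgroup.closure {s | ∃ (v : W6) (i : Fin 6), s = v * cs6.simple i * v⁻¹ ∧ ch hp6 (rp v (sr i)) t = 1}) :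
    ∃ m ∈ MM cs6 hp6.isCartan (XL (Xj hp6 (k := Kb r))) (ch hp6) t, Rp cs6 (H6 r).nsys w m := by
  have ht' : t ∈ TL (Tj hp6 (k := Kb r)) := by rw [TL_eq hp6 (lf r)]; exact ht
  refine Subgroup.closure_induction (p := fun w _ => ∃ m ∈ MM cs6 hp6.isCartan (XL (Xj hp6 (k := Kb r))) (ch hp6) t,
    Rp cs6 (H6 r).nsys w m) ?_ ?_ ?_ ?_ hw
  · rintro _ ⟨v, i, rfl, h1⟩
    obtain ⟨w, j, h2, m, hm, hm'⟩ := exists_rfl_MM (H6 r) (coordsC r) (chAddC r) ht' (a := rp v (sr i)) ⟨⟨v, i, rfl⟩, h1⟩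
    refine ⟨m, hm, ?_⟩
    have h3 := rfl_congr h2
    have h4 : v * cs6.simple i * v⁻¹ = rfl' cs6 w j := h3
    rw [h4]
    exact hm'
  · exact ⟨1, one_mem _, rp_one⟩
  · rintro _ _ _ _ ⟨m, hm, hm'⟩ ⟨m', h1, h2⟩
    exact ⟨m * m', mul_mem hm h1, hm'.mul h2⟩
  · rintro _ _ ⟨m, hm, hm'⟩
    exact ⟨m⁻¹, inv_mem hm, hm'.inv⟩

/-- a frame: `x = v t v⁻¹`, and `conj m * σ`, `m = v⁻¹ σ(v)`, acts as `ε` on the roots -/
structure Frm (r n : ℕ) [Fact r.Prime] (ε : ℤ) (σ : MulAut (Yb r)) (x v t m : Yb r) (g : (Fin 6 → ℤ) ≃+ (Fin 6 → ℤ)) : Prop where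
  mem : t ∈ Tb r
  eq : x = v * t * v⁻¹
  m_eq : v⁻¹ * σ v = m
  frob : IsFrob r n (MulAut.conj m * σ)
  fr : Fr cs6 hp6.isCartan (Tb r) (XX chevE6 6 (Kb r)) (MulAut.conj m * σ) g
  root : ∀ a, IsRoot cs6 hp6.isCartan a → g a = ε • a

theorem frame (h : Six r n ε ι σ) {x z : Yb r} (hσx : σ x = x) (hz : z⁻¹ * x * z ∈ Tb r)
    (hw : ∀ t ∈ Tb r, (∃ z, z⁻¹ * x * z = t) → ∀ w₁ : W6,
      (∀ a, IsRoot cs6 hp6.isCartan a → ch hp6 (ε • rp w₁ a) t = ch hp6 a t ^ r ^ n) →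
      w₁ ∈ Subgroup.closure {s | ∃ (v : W6) (i : Fin 6), s = v * cs6.simple i * v⁻¹ ∧ ch hp6 (rp v (sr i)) t = 1}) :
    ∃ v t m g, Frm r n ε σ x v t m g := by
  obtain ⟨g, v₀, Fσ, hg⟩ := h.fr
  obtain ⟨z', t, n₀, g', w, ht, h1, h2, hF, F', htt, hw₀, hwa⟩ := frame_of_toral hp6 cs6 (lf r) h.pos h.frob Fσ hσx hz
  have ht' : t ∈ TL (Tj hp6 (k := Kb r)) := by rw [TL_eq hp6 (lf r)]; exact ht
  have hga : ∀ a, IsRoot cs6 hp6.isCartan a → g' a = ε • rp (w * v₀) a := by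
    intro a ha
    rw [hwa a ha, hg a, map_smul]
    show ε • rep cs6 hp6.isCartan w (rep cs6 hp6.isCartan v₀ a) = ε • rep cs6 hp6.isCartan (w * v₀) a
    rw [← rep_mul_apply]
  have hmem := hw t ht ⟨z', h1⟩ (w * v₀) (fun a ha => by
    have h3 := fr_ch hp6 cs6 (lf r) hF F' ha ht
    rwa [htt, hga a ha] at h3)
  obtain ⟨m, hm, hm'⟩ := exists_MM ht (inv_mem hmem)
  have hTL : TL (Tj hp6 (k := Kb r)) = TT chevE6 (Kb r) := TL_eq hp6 (lf r)
  have hXL : XL (Xj hp6 (k := Kb r)) = XX chevE6 6 (Kb r) := XL_eq hp6 (lf r)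
  have F'L : Fr cs6 hp6.isCartan (TL (Tj hp6 (k := Kb r))) (XL (Xj hp6 (k := Kb r))) (MulAut.conj n₀ * σ) g' := by
    rw [hTL, hXL]; exact F'
  obtain ⟨y, hy, hym⟩ : ∃ y ∈ MM cs6 hp6.isCartan (XL (Xj hp6 (k := Kb r))) (ch hp6) t,
      m = y⁻¹ * (MulAut.conj n₀ * σ) y := by
    have h3 := fun a => F'L.mem_Sx (coordsC r) ht' htt a
    rw [hXL] at hm ⊢
    exact lang_fr hp6 cs6 h.pos hF F' (S := Sx cs6 hp6.isCartan (ch hp6) t) (fun a ha => ha.1)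
      (fun a ha => (h3 a).2 ha) hm
  have hyt : y * t = t * y := by
    have := MM_le_centralizer (coordsC r) ht' hy
    rw [Subgroup.mem_centralizer_singleton_iff] at this
    exact this
  have F1 := Fr.conj (H6 r) hm'
  rw [hTL, hXL] at F1
  have F2 := F1.mul F'
  have e1 : MulAut.conj m * (MulAut.conj n₀ * σ) = MulAut.conj (m * n₀) * σ := by
    rw [← mul_assoc, ← map_mul]
  rw [e1] at F2
  refine ⟨z' * y, t, m * n₀, _, ht, ?_, ?_, h.frob.conj_mul _, F2, ?_⟩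
  · rw [← h1]
    have e2 : y * (z'⁻¹ * x * z') = z'⁻¹ * x * z' * y := by rw [h1]; exact hyt
    calc x = z' * (z'⁻¹ * x * z' * y) * y⁻¹ * z'⁻¹ := by group
      _ = z' * (y * (z'⁻¹ * x * z')) * y⁻¹ * z'⁻¹ := by rw [e2]
      _ = _ := by group
  · rw [hym]
    show (z' * y)⁻¹ * σ (z' * y) = y⁻¹ * (n₀ * σ y * n₀⁻¹) * n₀
    rw [map_mul, ← h2]
    group
  · intro a ha
    show rep cs6 hp6.isCartan (w * v₀)⁻¹ (g' a) = ε • a
    rw [hga a ha, map_smul]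
    show ε • rep cs6 hp6.isCartan (w * v₀)⁻¹ (rep cs6 hp6.isCartan (w * v₀) a) = ε • a
    rw [← rep_mul_apply, inv_mul_cancel, map_one, Module.End.one_apply]

/-- **Two good tori are conjugate by a fixed element, modulo the Weyl group.** -/
theorem glue (h : Six r n ε ι σ) {x v t m x' v' t' m' : Yb r} {g g' : (Fin 6 → ℤ) ≃+ (Fin 6 → ℤ)}
    (hx : Frm r n ε σ x v t m g) (hx' : Frm r n ε σ x' v' t' m' g') {w : W6}
    (hw : ∀ a, IsRoot cs6 hp6.isCartan a → ch hp6 (rp w a) t' = ch hp6 a t) : ∃ y, σ y = y ∧ y * x * y⁻¹ = x' := by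
  have hTL : TL (Tj hp6 (k := Kb r)) = TT chevE6 (Kb r) := TL_eq hp6 (lf r)
  have hε : ε * ε = 1 := by rcases h.eps with e | e <;> rw [e] <;> norm_num
  -- the two Frobenius maps differ by an element of the torus
  have e1 : MulAut.conj m' * σ = MulAut.conj (m' * m⁻¹) * (MulAut.conj m * σ) := by
    rw [← mul_assoc, ← map_mul, inv_mul_cancel_right]
  have F' := hx'.fr
  rw [e1] at F'
  obtain ⟨u, hu, hua⟩ := rep_of_fr hp6 cs6 (lf r) r hx.fr F'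
  have hu1 : u = 1 := by
    refine rep_faithful hp6 cs6 fun a ha => ?_
    have h1 := hua a ha
    rw [hx.root a ha, hx'.root a ha, map_smul] at h1
    have h2 := congrArg (fun b => ε • b) h1
    simp only [smul_smul, hε, one_smul] at h2
    rw [map_one, Module.End.one_apply]
    exact h2.symm
  rw [hu1] at hu
  have hmT : m' * m⁻¹ ∈ TT chevE6 (Kb r) := by
    have := hu.mem_of_one
    rwa [hTL] at this
  obtain ⟨c, hc, hce⟩ := torus_lang hp6 cs6 (lf r) (cen r) h.pos hx.frob hx.fr hmT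
  -- a fixed representative of `w`
  obtain ⟨k, hk, hkf⟩ := exists_fixed_rp hp6 cs6 (lf r) (cen r) h.pos hx.frob hx.fr (w := w) (fun a ha => by
    rw [hx.root a ha, hx.root _ (ha.act w), map_smul])
  have hkt : k * t * k⁻¹ = t' := by
    have h1 : k * t * k⁻¹ ∈ TT chevE6 (Kb r) := by
      have := (Subgroup.mem_normalizer_iff.1 hk.mem_normalizer t).1 (by rw [hTL]; exact hx.mem)
      rwa [hTL] at this
    refine ext_TT hp6 cs6 (lf r) r (cen r) h1 hx'.mem fun a ha => ?_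
    obtain ⟨b, rfl⟩ : ∃ b, a = rep cs6 hp6.isCartan w b :=
      ⟨rep cs6 hp6.isCartan w⁻¹ a, by rw [← rep_mul_apply, mul_inv_cancel, map_one, Module.End.one_apply]⟩
    have hb : IsRoot cs6 hp6.isCartan b := by
      have := ha.act w⁻¹
      rwa [← rep_mul_apply, inv_mul_cancel, map_one, Module.End.one_apply] at this
    have h2 := (coordsC r).chi_rp (H6 r).nsys hk hb (t := t) (by rw [hTL]; exact hx.mem)
    rw [h2]
    exact (hw b hb).symm
  refine ⟨v' * c⁻¹ * k * v⁻¹, ?_, ?_⟩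
  · have h1 : σ v = v * m := by rw [← hx.m_eq]; group
    have h2 : σ v' = v' * m' := by rw [← hx'.m_eq]; group
    have h3 : m * σ k * m⁻¹ = k := hkf
    have h4 : m' * m⁻¹ = c⁻¹ * (m * σ c * m⁻¹) := hce
    have h5 : m' * (σ c)⁻¹ = c⁻¹ * m := by
      have : m' = c⁻¹ * (m * σ c * m⁻¹) * m := by rw [← h4]; group
      rw [this]; group
    rw [map_mul, map_mul, map_mul, map_inv, map_inv, h1, h2]
    calc v' * m' * (σ c)⁻¹ * σ k * (v * m)⁻¹ = v' * (m' * (σ c)⁻¹) * σ k * m⁻¹ * v⁻¹ := by group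
      _ = v' * c⁻¹ * (m * σ k * m⁻¹) * v⁻¹ := by rw [h5]; group
      _ = _ := by rw [h3]
  · rw [hx.eq, hx'.eq]
    have h6 := TT_comm hp6 _ (inv_mem hc) _ hx'.mem
    calc v' * c⁻¹ * k * v⁻¹ * (v * t * v⁻¹) * (v' * c⁻¹ * k * v⁻¹)⁻¹ = v' * c⁻¹ * (k * t * k⁻¹) * c * v'⁻¹ := by group
      _ = v' * (c⁻¹ * t') * c * v'⁻¹ := by rw [hkt]; group
      _ = _ := by rw [h6]; group

end Cfsg.Agent.H303.Car
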