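import Cfsg.Agent.H303.Car.Frame

/-!
# The involutions of `E₆^ε(q)`, `q` odd (helper303, S3852 T8)

`invCl` : there are at most two classes of involutions.
-/

set_option autoImplicit false
set_option linter.unusedSectionVars false

namespace Cfsg.Agent.H303.Car

open CoxeterSystem Subgroup Cfsg Cfsg.Lie Cfsg.Lie.ChevalleyDatum
open Cfsg.Agent.ChevalleyStructure Cfsg.Agent.ChevalleyStructure.Elts Cfsg.Agent.ChevalleyStructure.CoxeterGeom
  Cfsg.Agent.ChevalleyStructure.CoxeterGeomTypes Cfsg.Agent.ChevalleyStructure.NPerm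
open Cfsg.Agent.Tits.Roots Cfsg.Agent.Tits.Core Cfsg.Agent.Nodes Cfsg.Agent.Nodes.Reps Cfsg.Agent.Nodes.BNOf
  Cfsg.Agent.Nodes.RGDChev Cfsg.Agent.Nodes.Bruhat
open Cfsg.Agent.KFacts.RgdField Cfsg.Agent.KFacts.RgdChevCoord
open Cfsg.Agent.BpExc Cfsg.Agent.BpExc.TorCent Cfsg.Agent.BpExc.TorChev Cfsg.Agent.BpExc.Tow
open Cfsg.Agent.BpExc.TowChev Cfsg.Agent.BpExc.Fr Cfsg.Agent.BpExc.LangFr
open Cfsg.Agent.BpExc.FamUntw Cfsg.Agent.BpExc.Pair
open Cfsg.Agent.H696.GmnToral Cfsg.Agent.H720.TwFr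
open Cfsg.Agent.H607.Car Cfsg.Agent.H696.GmnUntw Cfsg.Agent.Nodes.SubComb Cfsg.Agent.Nodes.Coroot

/-! ### homomorphisms of the root lattice modulo 2 -/

theorem ind_sr {P : (Fin 6 → ℤ) → Prop} (h0 : P 0) (ha : ∀ a b, P a → P b → P (a + b)) (hn : ∀ a, P a → P (-a))
    (hs : ∀ i, P (sr i)) (a : Fin 6 → ℤ) : P a := by
  have h1 : ∀ (m : ℤ) (i : Fin 6), P (m • sr i) := by
    intro m i
    induction m using Int.induction_on with
    | zero => rw [zero_smul]; exact h0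
    | succ k ih => rw [add_smul, one_smul]; exact ha _ _ ih (hs i)
    | pred k ih => rw [sub_smul, one_smul, sub_eq_add_neg]; exact ha _ _ ih (hn _ (hs i))
  have h2 : a = ∑ i, a i • (sr i : Fin 6 → ℤ) := by
    funext j
    rw [Finset.sum_apply, Finset.sum_eq_single j]
    · rw [Pi.smul_apply, sr_self, smul_eq_mul, mul_one]
    · intro k _ hk
      rw [Pi.smul_apply, sr_ne (Ne.symm hk), smul_zero]
    · intro hj; exact absurd (Finset.mem_univ j) hj
  rw [h2]
  exact Finset.sum_induction _ P ha h0 fun i _ => h1 _ i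

section Val

variable {A : Type*} [AddCommGroup A] (c : Fin 6 → A)

theorem val_zero : val c 0 = 0 := by
  unfold val
  exact Finset.sum_eq_zero fun i _ => by rw [Pi.zero_apply, zero_smul]

theorem val_add (a b : Fin 6 → ℤ) : val c (a + b) = val c a + val c b := by
  unfold val
  rw [← Finset.sum_add_distrib]
  exact Finset.sum_congr rfl fun i _ => by rw [Pi.add_apply, add_smul]

theorem val_neg (a : Fin 6 → ℤ) : val c (-a) = -val c a := by
  have h := val_add c (-a) a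
  rw [neg_add_cancel, val_zero] at h
  exact eq_neg_of_add_eq_zero_left h.symm

theorem val_sr (i : Fin 6) : val c (sr i) = c i := by
  unfold val
  rw [Finset.sum_eq_single i]
  · rw [sr_self, one_smul]
  · intro k _ hk
    rw [sr_ne hk, zero_smul]
  · intro hj; exact absurd (Finset.mem_univ i) hj

theorem fixW_of {w : W6} (h : ∀ i, val c (rp w (sr i)) = val c (sr i)) : FixW c w := by
  intro a
  refine ind_sr (P := fun a => val c (rp w a) = val c a) ?_ ?_ ?_ h a
  · show val c (rep cs6 hp6.isCartan w 0) = _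
    rw [map_zero]
  · intro a b ha hb
    show val c (rep cs6 hp6.isCartan w (a + b)) = _
    rw [map_add, val_add, val_add]
    exact congrArg₂ (· + ·) ha hb
  · intro a ha
    show val c (rep cs6 hp6.isCartan w (-a)) = _
    rw [map_neg, val_neg, val_neg]
    exact congrArg (fun x => -x) ha

end Val

/-- the character `ZMod 2 → {±1}` -/
def sg (K : Type*) [Field K] (x : ZMod 2) : K := if x = 0 then 1 else -1

section Sg

variable {K : Type*} [Field K]

theorem sg_zero : sg K 0 = 1 := by rw [sg, if_pos rfl]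

theorem sg_one : sg K 1 = -1 := by rw [sg, if_neg (by decide)]

theorem zmod2 (x : ZMod 2) : x = 0 ∨ x = 1 := by
  revert x; decide

theorem sg_add (x y : ZMod 2) : sg K (x + y) = sg K x * sg K y := by
  rcases zmod2 x with rfl | rfl <;> rcases zmod2 y with rfl | rfl
  · rw [add_zero, sg_zero, mul_one]
  · rw [zero_add, sg_zero, one_mul]
  · rw [add_zero, sg_zero, mul_one]
  · rw [show (1 : ZMod 2) + 1 = 0 by decide, sg_zero, sg_one]; norm_num

theorem sg_inj (h2 : (2 : K) ≠ 0) {x y : ZMod 2} (h : sg K x = sg K y) : x = y := by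
  rcases zmod2 x with rfl | rfl <;> rcases zmod2 y with rfl | rfl
  · rfl
  · rw [sg_zero, sg_one] at h
    exact absurd (by linear_combination h) h2
  · rw [sg_zero, sg_one] at h
    exact absurd (by linear_combination -h) h2
  · rfl

theorem sg_pow_odd (x : ZMod 2) {m : ℕ} (hm : Odd m) : sg K x ^ m = sg K x := by
  rcases zmod2 x with rfl | rfl
  · rw [sg_zero, one_pow]
  · rw [sg_one, hm.neg_one_pow]

theorem sg_neg (x : ZMod 2) : sg K (-x) = sg K x := by
  rcases zmod2 x with rfl | rfl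
  · rw [neg_zero]
  · rw [show -(1 : ZMod 2) = 1 by decide]

theorem sg_ne_zero (x : ZMod 2) : sg K x ≠ 0 := by
  rcases zmod2 x with rfl | rfl
  · rw [sg_zero]; exact one_ne_zero
  · rw [sg_one]; exact neg_ne_zero.2 one_ne_zero

end Sg

variable {r n : ℕ} [Fact r.Prime] {ε : ℤ} {X : Type} [Group X] {ι : X →* Yb r} {σ : MulAut (Yb r)}

/-- an element of order at most 2 of the torus gives a homomorphism of the root lattice modulo 2 -/
theorem exists_c {t : Yb r} (ht : t ∈ Tb r) (h2 : t ^ 2 = 1) :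
    ∃ c : Fin 6 → ZMod 2, ∀ a, IsRoot cs6 hp6.isCartan a → ch hp6 a t = sg (Kb r) (val c a) := by
  classical
  obtain ⟨φ, h0, hadd, hφ⟩ := chAddL hp6 cs6 (lf r) r t ht
  refine ⟨fun i => if φ (sr i) = 1 then 0 else 1, fun a ha => ?_⟩
  rw [hφ a ha]
  refine ind_sr (P := fun a => φ a = sg (Kb r) (val _ a)) ?_ ?_ ?_ ?_ a
  · show φ 0 = sg (Kb r) (val _ 0)
    rw [val_zero, sg_zero, h0]
  · intro a b ha hb
    show φ (a + b) = sg (Kb r) (val _ (a + b))
    rw [val_add, sg_add, hadd, ha, hb]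
  · intro a ha
    show φ (-a) = sg (Kb r) (val _ (-a))
    rw [val_neg, sg_neg]
    have h1 := hadd (-a) a
    rw [neg_add_cancel, h0, ha] at h1
    have h3 : sg (Kb r) (val (fun i => if φ (sr i) = 1 then (0 : ZMod 2) else 1) a) *
        sg (Kb r) (val (fun i => if φ (sr i) = 1 then (0 : ZMod 2) else 1) a) = 1 := by
      rw [← sg_add]
      rcases zmod2 (val (fun i => if φ (sr i) = 1 then (0 : ZMod 2) else 1) a) with e | e <;> rw [e]
      · rw [add_zero, sg_zero]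
      · rw [show (1 : ZMod 2) + 1 = 0 by decide, sg_zero]
    exact mul_right_cancel₀ (sg_ne_zero _) (h1.symm.trans h3.symm)
  · intro i
    show φ (sr i) = sg (Kb r) (val _ (sr i))
    rw [val_sr]
    have hi : IsRoot cs6 hp6.isCartan (sr i) := ⟨1, i, by rw [map_one, Module.End.one_apply]⟩
    have h1 := ch_pow hp6 cs6 (lf r) r hi ht 2
    rw [h2, ch_one hp6 cs6 (lf r) r hi, hφ _ hi] at h1
    by_cases e : φ (sr i) = 1
    · rw [if_pos e, sg_zero, e]
    · rw [if_neg e, sg_one]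
      have h1' : φ (sr i) * φ (sr i) = 1 := by rw [← sq]; exact h1.symm
      rcases mul_self_eq_one_iff.1 h1' with h | h
      · exact absurd h e
      · exact h

/-! ### involutions -/

theorem two_ne (hr : r ≠ 2) : (2 : Kb r) ≠ 0 := by
  intro h
  have h1 : ((2 : ℕ) : Kb r) = 0 := by rw [Nat.cast_ofNat]; exact h
  have h2 := (CharP.cast_eq_zero_iff (Kb r) r 2).1 h1
  exact hr ((Nat.prime_dvd_prime_iff_eq (Fact.out : r.Prime) Nat.prime_two).1 h2)

theorem odd_pow (hr : r ≠ 2) (n : ℕ) : Odd (r ^ n) :=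
  ((Fact.out : r.Prime).odd_of_ne_two hr).pow

theorem isRoot_eps {a : Fin 6 → ℤ} (hε : ε = 1 ∨ ε = -1) (ha : IsRoot cs6 hp6.isCartan a) :
    IsRoot cs6 hp6.isCartan (ε • a) := by
  rcases hε with rfl | rfl
  · rwa [one_smul]
  · rw [neg_smul, one_smul]; exact ha.neg

theorem sg_eps (hε : ε = 1 ∨ ε = -1) (c : Fin 6 → ZMod 2) (a : Fin 6 → ℤ) :
    sg (Kb r) (val c (ε • a)) = sg (Kb r) (val c a) := by
  rcases hε with rfl | rfl
  · rw [one_smul]
  · rw [neg_smul, one_smul, val_neg, sg_neg]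

/-- `x` lies in a good torus, with the homomorphism `c` of the root lattice modulo 2 -/
def HasC (r n : ℕ) [Fact r.Prime] (ε : ℤ) (σ : MulAut (Yb r)) (y : Yb r) (c : Fin 6 → ZMod 2) : Prop :=
  ∃ v t m g, Frm r n ε σ y v t m g ∧ ∀ a, IsRoot cs6 hp6.isCartan a → ch hp6 a t = sg (Kb r) (val c a)

/-- `c` and `c'` are in the same orbit -/
def Sm (c c' : Fin 6 → ZMod 2) : Prop := ∃ w : W6, ∀ a, val c (rp w a) = val c' a

theorem Sm.symm {c c' : Fin 6 → ZMod 2} (h : Sm c c') : Sm c' c := by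
  obtain ⟨w, hw⟩ := h
  refine ⟨w⁻¹, fun a => ?_⟩
  rw [← hw]
  show val c (rep cs6 hp6.isCartan w (rep cs6 hp6.isCartan w⁻¹ a)) = val c a
  rw [← rep_mul_apply, mul_inv_cancel, map_one, Module.End.one_apply]

theorem Sm.trans {c c' d : Fin 6 → ZMod 2} (h : Sm c c') (h' : Sm c' d) : Sm c d := by
  obtain ⟨w, hw⟩ := h
  obtain ⟨w', hw'⟩ := h'
  refine ⟨w * w', fun a => ?_⟩
  rw [← hw', ← hw]
  show val c (rep cs6 hp6.isCartan (w * w') a) = val c (rep cs6 hp6.isCartan w (rep cs6 hp6.isCartan w' a))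
  rw [rep_mul_apply]

/-- **Involutions have frames.** -/
theorem exists_inv (hr : r ≠ 2) (h : Six r n ε ι σ) (hR : ReflTwo) {x : X} (hx : orderOf x = 2) :
    ∃ c : Fin 6 → ZMod 2, c ≠ 0 ∧ HasC r n ε σ (ι x) c := by
  have hx2 : ι x ^ 2 = 1 := by rw [← map_pow, ← hx, pow_orderOf_eq_one, map_one]
  obtain ⟨z, hz⟩ := TorAll.exists_toral' hp6 r Nat.prime_two (Ne.symm hr) hx2
  obtain ⟨v, t, m, g, F⟩ := frame h (h.fix x) hz (by
    rintro t ht ⟨z, rfl⟩ w₁ hw
    obtain ⟨c, hc⟩ := exists_c ht (by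
      have : (z⁻¹ * ι x * z) ^ 2 = z⁻¹ * ι x ^ 2 * z := by rw [sq, sq]; group
      rw [this, hx2]; group)
    have h1 : FixW c w₁ := by
      refine fixW_of c fun i => ?_
      have hi : IsRoot cs6 hp6.isCartan (sr i) := ⟨1, i, by rw [map_one, Module.End.one_apply]⟩
      have h2 := hw (sr i) hi
      rw [hc _ hi, hc _ (isRoot_eps h.eps (hi.act w₁)), sg_eps h.eps, sg_pow_odd _ (odd_pow hr n)] at h2
      exact sg_inj (two_ne hr) h2
    refine Subgroup.closure_mono ?_ (hR c w₁ h1)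
    rintro _ ⟨v, i, rfl, h2⟩
    refine ⟨v, i, rfl, ?_⟩
    rw [hc _ ⟨v, i, rfl⟩, h2, sg_zero])
  have ht2 : t ^ 2 = 1 := by
    have h1 : v * t ^ 2 * v⁻¹ = 1 := by
      rw [← hx2, F.eq, sq, sq]; group
    have h2 : t ^ 2 = v⁻¹ * (v * t ^ 2 * v⁻¹) * v := by group
    rw [h2, h1]; group
  obtain ⟨c, hc⟩ := exists_c F.mem ht2
  refine ⟨c, ?_, v, t, m, g, F, hc⟩
  rintro rfl
  have h1 : t = 1 := eq_one_TT hp6 cs6 (lf r) r (cen r) F.mem fun a ha => by
    rw [hc a ha]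
    have : val (0 : Fin 6 → ZMod 2) a = 0 := by
      unfold val
      exact Finset.sum_eq_zero fun i _ => by rw [Pi.zero_apply, smul_zero]
    rw [this, sg_zero]
  have h2 : ι x = 1 := by rw [F.eq, h1]; group
  have h3 : x = 1 := h.inj (by rw [h2, map_one])
  rw [h3, orderOf_one] at hx
  exact absurd hx (by norm_num)

/-- involutions in the same orbit are conjugate -/
theorem isConj_of_sm (hr : r ≠ 2) (h : Six r n ε ι σ) (hC : ConnSt r ι σ) {x x' : X} (hx : orderOf x = 2)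
    {c c' : Fin 6 → ZMod 2} (hc : HasC r n ε σ (ι x) c) (hc' : HasC r n ε σ (ι x') c') (hs : Sm c' c) :
    IsConj x x' := by
  obtain ⟨v, t, m, g, F, hc⟩ := hc
  obtain ⟨v', t', m', g', F', hc'⟩ := hc'
  obtain ⟨w, hw⟩ := hs
  obtain ⟨y, hy, hy'⟩ := glue h F F' (w := w) (fun a ha => by
    rw [hc a ha, hc' _ (ha.act w), hw a])
  exact hC x x' (by rw [hx]; exact Nat.prime_two) (by rw [hx]; norm_num) (by rw [hx]; exact Ne.symm hr) y hy hy'

/-- **T8.** Two classes of involutions. -/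
theorem invCl (hr : r ≠ 2) (h : Six r n ε ι σ) (hR : ReflTwo) (hO : OrbTwo) (hC : ConnSt r ι σ) (t0 : X)
    (h0 : orderOf t0 = 2) : InvCl X t0 := by
  obtain ⟨c₁, -, hO⟩ := hO
  have key' : ∀ x x' : X, orderOf x = 2 → orderOf x' = 2 → ∀ c c' : Fin 6 → ZMod 2, c ≠ 0 → c' ≠ 0 →
      HasC r n ε σ (ι x) c → HasC r n ε σ (ι x') c' → (Sm c c₁ ↔ Sm c' c₁) → IsConj x x' := by
    intro x x' hx hx' c c' hc0 hc0' hc hc' hiff
    refine isConj_of_sm hr h hC hx hc hc' ?_
    by_cases hs : Sm c c₁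
    · exact (hiff.1 hs).trans hs.symm
    · exact hO c' c hc0' hc0 (fun h' => hs (hiff.2 h')) hs
  refine ⟨h0, fun s t hs ht hs0 ht0 => ?_⟩
  obtain ⟨c, hc, hcF⟩ := exists_inv hr h hR h0
  obtain ⟨d, hd, hdF⟩ := exists_inv hr h hR hs
  obtain ⟨e, he, heF⟩ := exists_inv hr h hR ht
  have h1 : ¬ (Sm d c₁ ↔ Sm c c₁) := fun hi => hs0 (key' s t0 hs h0 d c hd hc hdF hcF hi)
  have h2 : ¬ (Sm e c₁ ↔ Sm c c₁) := fun hi => ht0 (key' t t0 ht h0 e c he hc heF hcF hi)
  refine key' s t hs ht d e hd he hdF heF ?_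
  by_cases h3 : Sm c c₁
  · have h4 : ¬ Sm d c₁ := fun h5 => h1 ⟨fun _ => h3, fun _ => h5⟩
    have h6 : ¬ Sm e c₁ := fun h5 => h2 ⟨fun _ => h3, fun _ => h5⟩
    exact ⟨fun h5 => absurd h5 h4, fun h5 => absurd h5 h6⟩
  · have h4 : Sm d c₁ := by
      by_contra h5
      exact h1 ⟨fun h7 => absurd h7 h5, fun h7 => absurd h7 h3⟩
    have h6 : Sm e c₁ := by
      by_contra h5
      exact h2 ⟨fun h7 => absurd h7 h5, fun h7 => absurd h7 h3⟩
    exact ⟨fun _ => h6, fun _ => h4⟩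

end Cfsg.Agent.H303.Car
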